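import Cfsg.Agent.CosetEnum.Fi24H.Cosets
import Cfsg.Agent.CosetEnum.Fi24H.Edges
import Cfsg.Agent.CosetEnum.Fi24H.Tree
import Cfsg.Agent.CosetEnum.Fi24H.Fix
import Cfsg.Agent.CosetEnum.Fi24E8.Spider
import Cfsg.Agent.CosetEnum.Fi23Simple.Final

set_option autoImplicit false
set_option maxRecDepth 100000

/-!
The order of the presented Fi24: the subgroup on all letters but `k` modulo the central involution
`l` is a nontrivial image of Fi23, and has index 306936.
-/

namespace CfsgLib.CosetEnum.Fi24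

open Fi24H (H hLetters perm)

/-- The letters of Fi23 as letters of Fi24. -/
def m23 (x : ℕ) : ℕ := [0, 1, 2, 3, 4, 5, 6, 9, 7, 8].getD x 0

theorem g_mem_H (x : ℕ) (hx : x ∈ hLetters) : setup.g x ∈ H :=
  Subgroup.subset_closure ⟨x, hx, rfl⟩

theorem m23_mem (x : ℕ) : m23 x ∈ hLetters := by
  rcases lt_or_ge x 10 with hx | hx
  · interval_cases x <;> decide
  · rw [m23, List.getD_eq_default _ _ (by simpa using hx)]
    decide

theorem comm_l (x : ℕ) (hx : x ∈ hLetters) : setup.g 11 * setup.g x = setup.g x * setup.g 11 := by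
  have hsq : ∀ y, setup.g y * setup.g y = 1 := fun y => setup.of_sq _
  rcases eq_or_ne x 11 with rfl | hne
  · rfl
  · have hc : [x, 11, x, 11] ∈ words := by
      simp only [hLetters, List.mem_cons, List.not_mem_nil, or_false] at hx
      rcases hx with rfl | rfl | rfl | rfl | rfl | rfl | rfl | rfl | rfl | rfl | rfl <;>
        first | decide +kernel | exact absurd rfl hne
    have h := setup.prod_mem _ hc
    simp only [prodw, List.map_cons, List.map_nil, List.prod_cons, List.prod_nil, mul_one] at h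
    calc setup.g 11 * setup.g x
        = (setup.g x * setup.g x) * (setup.g 11 * setup.g x) * (setup.g 11 * setup.g 11) := by
          rw [hsq, hsq, one_mul, mul_one]
      _ = setup.g x * (setup.g x * (setup.g 11 * (setup.g x * setup.g 11))) * setup.g 11 := by
          simp only [mul_assoc]
      _ = setup.g x * setup.g 11 := by rw [h, mul_one]

/-- The central involution of the point stabiliser. -/
noncomputable def lH : H := ⟨setup.g 11, g_mem_H 11 (by decide)⟩

theorem lH_central (y : H) : lH * y = y * lH := by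
  refine Subtype.ext ?_
  show setup.g 11 * (y : setup.Grp) = (y : setup.Grp) * setup.g 11
  have hy : (y : setup.Grp) ∈ H := y.2
  generalize (y : setup.Grp) = z at hy ⊢
  induction hy using Subgroup.closure_induction with
  | mem z hz =>
    obtain ⟨x, hx, rfl⟩ := hz
    exact comm_l x hx
  | one => simp
  | mul a b _ _ ha hb => rw [← mul_assoc, ha, mul_assoc, hb, mul_assoc]
  | inv a _ ha => rw [eq_comm, inv_mul_eq_iff_eq_mul, ← mul_assoc, ← ha, mul_inv_cancel_right]

/-- The subgroup generated by the central involution. -/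
noncomputable abbrev Z : Subgroup H := Subgroup.zpowers lH

instance normal_Z : Z.Normal := by
  refine ⟨fun a ha y => ?_⟩
  obtain ⟨m, rfl⟩ := Subgroup.mem_zpowers_iff.mp ha
  rw [((show Commute lH y from lH_central y).zpow_left m).symm.eq, mul_inv_cancel_right]
  exact ha

/-- The coset action. -/
theorem action :
    ∃ (φ : setup.Grp →* Equiv.Perm (Fin 306936)) (e : setup.Grp ⧸ H ≃ Fin 306936),
      (∀ x, x < 12 → φ (setup.g x) = perm Fi24H.fix_all x) ∧
      (∀ (y : setup.Grp) (q : setup.Grp ⧸ H), e (y • q) = φ y (e q)) ∧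
      e ((1 : setup.Grp) : setup.Grp ⧸ H) = 0 :=
  Fi24H.exists_cosets Fi24H.fix_all Fi24H.edges_all Fi24H.tree_all

/-- The index of the subgroup on all letters but `k`. -/
theorem index_H : (H : Subgroup setup.Grp).index = 306936 := by
  obtain ⟨-, e, -⟩ := action
  rw [Subgroup.index_eq_card, Nat.card_congr e, Nat.card_fin]

/-- The map of Fi23 onto the point stabiliser modulo its central involution. -/
theorem exists_chi : ∃ χ : Cfsg.Spor.Fi23 →* H ⧸ Z, Function.Surjective χ ∧
    ∀ x, x < 10 → χ (Fi23.setup.g x) = QuotientGroup.mk ⟨setup.g (m23 x), g_mem_H _ (m23_mem x)⟩ := by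
  let u : ℕ → H ⧸ Z := fun x => QuotientGroup.mk ⟨setup.g (m23 x), g_mem_H _ (m23_mem x)⟩
  have key : ∀ w : List ℕ, ∃ y : H, prodw u w = QuotientGroup.mk y ∧
      (y : setup.Grp) = prodw setup.g (w.map m23) := by
    intro w
    induction w with
    | nil => exact ⟨1, rfl, rfl⟩
    | cons x w ih =>
      obtain ⟨y, h1, h2⟩ := ih
      refine ⟨⟨setup.g (m23 x), g_mem_H _ (m23_mem x)⟩ * y, ?_, ?_⟩
      · rw [prodw_cons, h1, QuotientGroup.mk_mul]
      · rw [List.map_cons, prodw_cons, Subgroup.coe_mul, h2]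
  obtain ⟨χ, hχ⟩ := Fi23.setup.exists_hom u (fun x _ => by
      show (QuotientGroup.mk _ : H ⧸ Z) * QuotientGroup.mk _ = 1
      rw [← QuotientGroup.mk_mul, ← QuotientGroup.mk_one]
      exact congrArg QuotientGroup.mk (Subtype.ext (setup.of_sq _))) (by
    intro w hw
    obtain ⟨y, h1, h2⟩ := key w
    rw [h1, QuotientGroup.eq_one_iff]
    have hcase := List.all_eq_true.mp (show Fi23.words.all (fun w => decide (w.map m23 ∈ words) ||
      decide (w.map m23 = Fi24E8.spiderWord) || decide (w.map m23 = Fi24P.uWord) || decide ((w.map m23).rotate 1 ∈ words)) = true by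
        decide +kernel) w hw
    simp only [Bool.or_eq_true, decide_eq_true_eq] at hcase
    rcases hcase with ((hc | hc) | hc) | hc
    · rw [show y = 1 from Subtype.ext (h2.trans (setup.prod_mem _ hc))]
      exact one_mem _
    · rw [show y = 1 from Subtype.ext (h2.trans (by rw [hc]; exact Fi24E8.spiderWord_one Fi24H.fix_all))]
      exact one_mem _
    · rw [show y = lH from Subtype.ext (h2.trans (by rw [hc]; exact Fi24P.uWord_eq))]
      exact Subgroup.mem_zpowers _
    · have h3 : prodw setup.g (w.map m23) = 1 := by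
        have h4 := setup.prod_mem _ hc
        simp only [prodw, List.map_rotate] at h4 ⊢
        have h5 := List.prod_rotate_eq_one_of_prod_eq_one h4 ((w.map m23).length - 1)
        rw [List.rotate_rotate] at h5
        rcases Nat.eq_zero_or_pos (w.map m23).length with h6 | h6
        · rw [List.length_eq_zero_iff.mp h6]; rfl
        · rwa [show 1 + ((w.map m23).length - 1) = ((w.map m23).map setup.g).length by
            rw [List.length_map (f := setup.g)]; omega, List.rotate_length] at h5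
      rw [show y = 1 from Subtype.ext (h2.trans h3)]
      exact one_mem _)
  refine ⟨χ, ?_, hχ⟩
  intro q
  obtain ⟨⟨z, hz⟩, rfl⟩ := QuotientGroup.mk_surjective q
  show QuotientGroup.mk _ ∈ Set.range χ
  rw [← MonoidHom.coe_range, SetLike.mem_coe]
  revert hz
  have key2 : ∀ z (hz : z ∈ H), (QuotientGroup.mk (⟨z, hz⟩ : H) : H ⧸ Z) ∈ χ.range := by
    intro z hz
    induction hz using Subgroup.closure_induction with
    | mem z hz =>
      obtain ⟨x, hx, rfl⟩ := hz
      rcases eq_or_ne x 11 with rfl | hne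
      · rw [(QuotientGroup.eq_one_iff _).mpr
          (show (⟨setup.g 11, _⟩ : H) ∈ Z from Subgroup.mem_zpowers lH)]
        exact one_mem _
      · obtain ⟨a, ha, rfl⟩ : ∃ a, a < 10 ∧ m23 a = x := by
          simp only [hLetters, List.mem_cons, List.not_mem_nil, or_false] at hx
          rcases hx with rfl | rfl | rfl | rfl | rfl | rfl | rfl | rfl | rfl | rfl | rfl
          exacts [⟨0, by decide⟩, ⟨1, by decide⟩, ⟨2, by decide⟩, ⟨3, by decide⟩, ⟨4, by decide⟩,
            ⟨5, by decide⟩, ⟨6, by decide⟩, ⟨8, by decide⟩, ⟨9, by decide⟩, ⟨7, by decide⟩,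
            absurd rfl hne]
        exact ⟨Fi23.setup.g a, hχ a ha⟩
    | one => exact one_mem _
    | mul a b ha hb iha ihb =>
      rw [show (⟨a * b, _⟩ : H) = ⟨a, ha⟩ * ⟨b, hb⟩ from rfl, QuotientGroup.mk_mul]
      exact mul_mem iha ihb
    | inv a ha iha =>
      rw [show (⟨a⁻¹, _⟩ : H) = (⟨a, ha⟩ : H)⁻¹ from rfl, QuotientGroup.mk_inv]
      exact inv_mem iha
  exact key2 z

theorem lH_sq : lH * lH = 1 := Subtype.ext (setup.of_sq _)

theorem mem_H_iff {φ : setup.Grp →* Equiv.Perm (Fin 306936)} {e : setup.Grp ⧸ H ≃ Fin 306936}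
    (he : ∀ (y : setup.Grp) (q : setup.Grp ⧸ H), e (y • q) = φ y (e q))
    (he0 : e ((1 : setup.Grp) : setup.Grp ⧸ H) = 0) (y : setup.Grp) : φ y 0 = 0 ↔ y ∈ H := by
  have h := he y ((1 : setup.Grp) : setup.Grp ⧸ H)
  rw [he0, MulAction.Quotient.smul_coe, smul_eq_mul, mul_one] at h
  rw [← h, ← he0, e.apply_eq_iff_eq, QuotientGroup.eq, mul_one, inv_mem_iff]

theorem moves_one : Fi24H.T 0 1 = 2 ∧ Fi24H.T 11 1 = 3 := by
  constructor <;> exact Nat.eq_of_beq_eq_true (by decide +kernel)

/-- The action, its faithfulness, the orders, and the point stabiliser modulo its centre. -/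
theorem order_and_action :
    ∃ (φ : setup.Grp →* Equiv.Perm (Fin 306936)) (e : setup.Grp ⧸ H ≃ Fin 306936),
      (∀ x, x < 12 → φ (setup.g x) = perm Fi24H.fix_all x) ∧
      (∀ (y : setup.Grp) (q : setup.Grp ⧸ H), e (y • q) = φ y (e q)) ∧
      e ((1 : setup.Grp) : setup.Grp ⧸ H) = 0 ∧
      Function.Injective φ ∧ Nat.card setup.Grp = 2 * 1255205709190661721292800 ∧
      Nat.card H = 2 * 4089470473293004800 ∧ Nat.card Z = 2 ∧
      ∃ χ : Cfsg.Spor.Fi23 →* H ⧸ Z, Function.Bijective χ ∧
        ∀ x, x < 10 → χ (Fi23.setup.g x) = QuotientGroup.mk ⟨setup.g (m23 x), g_mem_H _ (m23_mem x)⟩ := by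
  obtain ⟨φ, e, hφ, he, he0⟩ := action
  obtain ⟨χ, hsurj, hχ⟩ := exists_chi
  have h0 : (φ (setup.g 0) ⟨1, by norm_num⟩).val = 2 := by
    rw [hφ 0 (by norm_num), Fi24H.perm_apply _ _ (by norm_num)]
    exact moves_one.1
  have hl : (φ (setup.g 11) ⟨1, by norm_num⟩).val = 3 := by
    rw [hφ 11 (by norm_num), Fi24H.perm_apply _ _ (by norm_num)]
    exact moves_one.2
  have hl1 : lH ≠ 1 := fun h => by
    have h' : setup.g 11 = 1 := congrArg Subtype.val h
    rw [h', map_one, Equiv.Perm.one_apply] at hl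
    simp at hl
  have hZ : Nat.card Z = 2 := by
    haveI : _root_.Fact (Nat.Prime 2) := ⟨Nat.prime_two⟩
    rw [Nat.card_zpowers]
    exact orderOf_eq_prime (by rw [pow_two, lH_sq]) hl1
  have hg0 : (⟨setup.g 0, g_mem_H 0 (by decide)⟩ : H) ∉ Z := by
    intro h
    haveI : Finite Z := Nat.finite_of_card_ne_zero (by rw [hZ]; norm_num)
    obtain ⟨w, hw1, huniq⟩ := (Nat.card_eq_two_iff' (1 : Z)).mp hZ
    by_cases h1 : (⟨_, h⟩ : Z) = 1
    · have h' : setup.g 0 = 1 := congrArg (fun v : Z => ((v : H) : setup.Grp)) h1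
      rw [h', map_one, Equiv.Perm.one_apply] at h0
      simp at h0
    · have e1 := (huniq _ h1).trans (huniq (⟨lH, Subgroup.mem_zpowers lH⟩ : Z)
        (fun h2 => hl1 (congrArg Subtype.val h2))).symm
      have h' : setup.g 0 = setup.g 11 := congrArg (fun v : Z => ((v : H) : setup.Grp)) e1
      rw [h', hl] at h0
      omega
  haveI : IsSimpleGroup Cfsg.Spor.Fi23 := Fi23.isSimpleGroup_Fi23
  have hinjχ : Function.Injective χ := by
    rw [← MonoidHom.ker_eq_bot_iff]
    refine (MonoidHom.normal_ker χ).eq_bot_or_eq_top.resolve_right fun htop => hg0 ?_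
    obtain ⟨y, hy⟩ := hsurj (QuotientGroup.mk ⟨setup.g 0, g_mem_H 0 (by decide)⟩)
    rw [show χ y = 1 from MonoidHom.mem_ker.mp (htop ▸ Subgroup.mem_top y)] at hy
    exact (QuotientGroup.eq_one_iff _).mp hy.symm
  have hHZ : Nat.card (H ⧸ Z) = 4089470473293004800 := by
    rw [← Nat.card_congr (Equiv.ofBijective χ ⟨hinjχ, hsurj⟩), Fi23.card_Fi23]
  have hH : Nat.card H = 2 * 4089470473293004800 := by
    rw [Subgroup.card_eq_card_quotient_mul_card_subgroup Z, hHZ, hZ, mul_comm]
  have hG : Nat.card setup.Grp = 2 * 1255205709190661721292800 := by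
    rw [Subgroup.card_eq_card_quotient_mul_card_subgroup (H : Subgroup setup.Grp), Nat.card_congr e,
      Nat.card_fin, hH]
  refine ⟨φ, e, hφ, he, he0, ?_, hG, hH, hZ, χ, ⟨hinjχ, hsurj⟩, hχ⟩
  rw [injective_iff_map_eq_one]
  intro y hy
  have hyH : y ∈ H := (mem_H_iff he he0 y).mp (by rw [hy]; rfl)
  let K : Subgroup H := φ.ker.subgroupOf H
  haveI : ((K.map (QuotientGroup.mk' Z)).comap χ).Normal :=
    ((Subgroup.normal_subgroupOf (H := (H : Subgroup setup.Grp)) (N := φ.ker)).map _ (QuotientGroup.mk'_surjective Z)).comap χ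
  rcases Subgroup.Normal.eq_bot_or_eq_top
    (inferInstance : ((K.map (QuotientGroup.mk' Z)).comap χ).Normal) with h | h
  · have hyZ : (⟨y, hyH⟩ : H) ∈ Z := by
      obtain ⟨v, hv⟩ := hsurj (QuotientGroup.mk ⟨y, hyH⟩)
      have : v ∈ (K.map (QuotientGroup.mk' Z)).comap χ := by
        rw [Subgroup.mem_comap, hv]
        exact ⟨_, (Subgroup.mem_subgroupOf.mpr (MonoidHom.mem_ker.mpr hy)), rfl⟩
      rw [h, Subgroup.mem_bot] at this
      rw [this, map_one] at hv
      exact (QuotientGroup.eq_one_iff _).mp hv.symm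
    haveI : Finite Z := Nat.finite_of_card_ne_zero (by rw [hZ]; norm_num)
    obtain ⟨w, hw1, huniq⟩ := (Nat.card_eq_two_iff' (1 : Z)).mp hZ
    by_cases h1 : (⟨_, hyZ⟩ : Z) = 1
    · exact congrArg (fun v : Z => ((v : H) : setup.Grp)) h1
    · have e1 := (huniq _ h1).trans (huniq (⟨lH, Subgroup.mem_zpowers lH⟩ : Z)
        (fun h2 => hl1 (congrArg Subtype.val h2))).symm
      have h' : y = setup.g 11 := congrArg (fun v : Z => ((v : H) : setup.Grp)) e1
      rw [← h', hy, Equiv.Perm.one_apply] at hl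
      simp at hl
  · exfalso
    have hmem : (QuotientGroup.mk ⟨setup.g 0, g_mem_H 0 (by decide)⟩ : H ⧸ Z) ∈
        K.map (QuotientGroup.mk' Z) := by
      obtain ⟨v, hv⟩ := hsurj (QuotientGroup.mk ⟨setup.g 0, g_mem_H 0 (by decide)⟩)
      have := h.symm ▸ Subgroup.mem_top v
      rwa [Subgroup.mem_comap, hv] at this
    obtain ⟨a, ha, hak⟩ := hmem
    have hka : φ (a : setup.Grp) = 1 := MonoidHom.mem_ker.mp (Subgroup.mem_subgroupOf.mp ha)
    obtain ⟨m, hm⟩ := Subgroup.mem_zpowers_iff.mp (QuotientGroup.eq.mp hak)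
    have hval : ((a : setup.Grp))⁻¹ * setup.g 0 = setup.g 11 ^ m := by
      simpa [lH] using (congrArg Subtype.val hm).symm
    have hp : φ (setup.g 0) = φ (setup.g 11) ^ m := by
      rw [← map_zpow, ← hval, map_mul, map_inv, hka, inv_one, one_mul]
    have hsq : φ (setup.g 11) * φ (setup.g 11) = 1 := by
      rw [← map_mul]
      exact (congrArg φ (setup.of_sq _)).trans (map_one φ)
    rcases Int.even_or_odd m with ⟨r, rfl⟩ | ⟨r, rfl⟩
    · rw [← two_mul, zpow_mul, zpow_two, hsq, one_zpow] at hp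
      rw [hp, Equiv.Perm.one_apply] at h0
      simp at h0
    · rw [zpow_add, zpow_mul, zpow_two, hsq, one_zpow, one_mul, zpow_one] at hp
      rw [hp, hl] at h0
      omega

theorem card_Fi24 : Nat.card Cfsg.Spor.Fi24 = 2 * 1255205709190661721292800 := by
  obtain ⟨-, -, -, -, -, -, h, -⟩ := order_and_action
  exact h

theorem finite_grp : Finite setup.Grp :=
  Nat.finite_of_card_ne_zero (by
    obtain ⟨-, -, -, -, -, -, h, -⟩ := order_and_action
    rw [h]; norm_num)

end CfsgLib.CosetEnum.Fi24
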