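import Cfsg.Agent.CosetEnum.Cox
import Cfsg.Prelude.Def_Spor_Fi24

set_option autoImplicit false
set_option maxRecDepth 20000
set_option maxHeartbeats 1000000

/-! The presentation of `Cfsg.Spor.Fi24` in the form used by the coset-enumeration checker. -/

namespace CfsgLib.CosetEnum.Fi24

open Cfsg.Spor

/-- Letters as generators, in alphabetical order. -/
def en : ℕ → Fi24.Gen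
  | 0 => .a
  | 1 => .b
  | 2 => .c
  | 3 => .d
  | 4 => .e
  | 5 => .f
  | 6 => .g
  | 7 => .h
  | 8 => .i
  | 9 => .j
  | 10 => .k
  | _ => .l

/-- Generators as letters. -/
def ix : Fi24.Gen → ℕ
  | .a => 0
  | .b => 1
  | .c => 2
  | .d => 3
  | .e => 4
  | .f => 5
  | .g => 6
  | .h => 7
  | .i => 8
  | .j => 9
  | .k => 10
  | .l => 11

/-- The extra relators as words. -/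
def exW : List (List ℕ) := [
  [11, 7, 5, 4, 3, 2, 1, 0, 7, 5, 4, 3, 2, 1, 0, 7, 5, 4, 3, 2, 1, 0, 7, 5, 4, 3, 2, 1, 0, 7, 5, 4, 3, 2, 1, 0, 7, 5, 4, 3, 2, 1, 0, 7, 5, 4, 3, 2, 1, 0, 7, 5, 4, 3, 2, 1, 0, 7, 5, 4, 3, 2, 1, 0],
  [3, 2, 1, 0, 10, 11, 3, 4, 5, 6, 9, 3, 7, 8, 3, 2, 1, 0, 10, 11, 3, 4, 5, 6, 9, 3, 7, 8, 3, 2, 1, 0, 10, 11, 3, 4, 5, 6, 9, 3, 7, 8, 3, 2, 1, 0, 10, 11, 3, 4, 5, 6, 9, 3, 7, 8, 3, 2, 1, 0, 10, 11, 3, 4, 5, 6, 9, 3, 7, 8, 3, 2, 1, 0, 10, 11, 3, 4, 5, 6, 9, 3, 7, 8, 3, 2, 1, 0, 10, 11, 3, 4, 5, 6, 9, 3, 7, 8, 3, 2, 1, 0, 10, 11, 3, 4, 5, 6, 9, 3, 7, 8, 3, 2, 1, 0, 10, 11, 3, 4, 5, 6, 9, 3, 7, 8, 3, 2, 1, 0, 10, 11, 3, 4, 5, 6, 9, 3, 7, 8, 3, 2, 1, 0, 10, 11, 3, 4, 5, 6, 9, 3, 7, 8, 3, 2, 1, 0, 10, 11, 3, 4, 5, 6, 9, 3, 7,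 8, 3, 2, 1, 0, 10, 11, 3, 4, 5, 6, 9, 3, 7, 8, 3, 2, 1, 0, 10, 11, 3, 4, 5, 6, 9, 3, 7, 8, 3, 2, 1, 0, 10, 11, 3, 4, 5, 6, 9, 3, 7, 8, 3, 2, 1, 0, 10, 11, 3, 4, 5, 6, 9, 3, 7, 8, 3, 2, 1, 0, 10, 11, 3, 4, 5, 6, 9, 3, 7, 8]]

/-- All relators as words. -/
def words : List (List ℕ) := [
  [0, 0],
  [0, 1, 0, 1, 0, 1],
  [0, 2, 0, 2],
  [0, 3, 0, 3],
  [0, 4, 0, 4],
  [0, 5, 0, 5],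
  [0, 6, 0, 6],
  [0, 7, 0, 7],
  [0, 8, 0, 8],
  [0, 9, 0, 9],
  [0, 10, 0, 10, 0, 10],
  [0, 11, 0, 11],
  [1, 1],
  [1, 2, 1, 2, 1, 2],
  [1, 3, 1, 3],
  [1, 4, 1, 4],
  [1, 5, 1, 5],
  [1, 6, 1, 6],
  [1, 7, 1, 7],
  [1, 8, 1, 8],
  [1, 9, 1, 9],
  [1, 10, 1, 10],
  [1, 11, 1, 11],
  [2, 2],
  [2, 3, 2, 3, 2, 3],
  [2, 4, 2, 4],
  [2, 5, 2, 5],
  [2, 6, 2, 6],
  [2, 7, 2, 7],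
  [2, 8, 2, 8],
  [2, 9, 2, 9],
  [2, 10, 2, 10],
  [2, 11, 2, 11],
  [3, 3],
  [3, 4, 3, 4, 3, 4],
  [3, 5, 3, 5],
  [3, 6, 3, 6],
  [3, 7, 3, 7, 3, 7],
  [3, 8, 3, 8],
  [3, 9, 3, 9],
  [3, 10, 3, 10],
  [3, 11, 3, 11],
  [4, 4],
  [4, 5, 4, 5, 4, 5],
  [4, 6, 4, 6],
  [4, 7, 4, 7],
  [4, 8, 4, 8],
  [4, 9, 4, 9],
  [4, 10, 4, 10],
  [4, 11, 4, 11],
  [5, 5],
  [5, 6, 5, 6, 5, 6],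
  [5, 7, 5, 7],
  [5, 8, 5, 8],
  [5, 9, 5, 9],
  [5, 10, 5, 10],
  [5, 11, 5, 11],
  [6, 6],
  [6, 7, 6, 7],
  [6, 8, 6, 8],
  [6, 9, 6, 9, 6, 9],
  [6, 10, 6, 10],
  [6, 11, 6, 11],
  [7, 7],
  [7, 8, 7, 8, 7, 8],
  [7, 9, 7, 9],
  [7, 10, 7, 10],
  [7, 11, 7, 11],
  [8, 8],
  [8, 9, 8, 9],
  [8, 10, 8, 10],
  [8, 11, 8, 11],
  [9, 9],
  [9, 10, 9, 10],
  [9, 11, 9, 11],
  [10, 10],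
  [10, 11, 10, 11, 10, 11],
  [11, 11],
  [11, 7, 5, 4, 3, 2, 1, 0, 7, 5, 4, 3, 2, 1, 0, 7, 5, 4, 3, 2, 1, 0, 7, 5, 4, 3, 2, 1, 0, 7, 5, 4, 3, 2, 1, 0, 7, 5, 4, 3, 2, 1, 0, 7, 5, 4, 3, 2, 1, 0, 7, 5, 4, 3, 2, 1, 0, 7, 5, 4, 3, 2, 1, 0],
  [3, 2, 1, 0, 10, 11, 3, 4, 5, 6, 9, 3, 7, 8, 3, 2, 1, 0, 10, 11, 3, 4, 5, 6, 9, 3, 7, 8, 3, 2, 1, 0, 10, 11, 3, 4, 5, 6, 9, 3, 7, 8, 3, 2, 1, 0, 10, 11, 3, 4, 5, 6, 9, 3, 7, 8, 3, 2, 1, 0, 10, 11, 3, 4, 5, 6, 9, 3, 7, 8, 3, 2, 1, 0, 10, 11, 3, 4, 5, 6, 9, 3, 7, 8, 3, 2, 1, 0, 10, 11, 3, 4, 5, 6, 9, 3, 7, 8, 3, 2, 1, 0, 10, 11, 3, 4, 5, 6, 9, 3, 7, 8, 3, 2, 1, 0, 10, 11, 3, 4, 5, 6, 9, 3, 7, 8, 3, 2, 1, 0, 10, 11, 3, 4, 5, 6, 9, 3, 7, 8, 3, 2, 1, 0, 10, 11, 3, 4, 5, 6, 9, 3, 7, 8, 3, 2, 1, 0, 10, 11, 3, 4, 5, 6,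 9, 3, 7, 8, 3, 2, 1, 0, 10, 11, 3, 4, 5, 6, 9, 3, 7, 8, 3, 2, 1, 0, 10, 11, 3, 4, 5, 6, 9, 3, 7, 8, 3, 2, 1, 0, 10, 11, 3, 4, 5, 6, 9, 3, 7, 8, 3, 2, 1, 0, 10, 11, 3, 4, 5, 6, 9, 3, 7, 8, 3, 2, 1, 0, 10, 11, 3, 4, 5, 6, 9, 3, 7, 8]]

theorem exW_eq (K : Type) [Group K] (f : Fi24.Gen → K) (hf : ∀ a, f a * f a = 1) :
    Fi24.extra.map (FreeGroup.lift f) = exW.map (prodw (f ∘ en)) := by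
  have hi : ∀ a, (f a)⁻¹ = f a := fun a => inv_eq_of_mul_eq_one_right (hf a)
  simp [Fi24.extra, exW, prodw, en, hi, pow_succ, mul_assoc]

/-- The setup. -/
noncomputable def setup : Setup Fi24.Gen where
  edges := Fi24.edges
  extra := Fi24.extra
  k := 12
  en := en
  ix := ix
  exW := exW
  words := words
  en_ix := fun a => by cases a <;> rfl
  ix_lt := fun a => by cases a <;> decide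
  ix_en := fun x hx => by interval_cases x <;> rfl
  node := fun a => by cases a <;> decide
  exW_eq := fun K _ f hf => exW_eq K f hf
  words_eq := by decide +kernel
  exW_lt := by decide +kernel

end CfsgLib.CosetEnum.Fi24
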