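import Cfsg.Agent.CosetEnum.Fi24.Suborbits
import Cfsg.Prelude.Def_SporadicB
import Cfsg.Prelude.Def_Sporadic

set_option autoImplicit false
set_option maxRecDepth 100000

/-! The commutator subgroup of the presented Fi24 is simple, of index two. -/

namespace CfsgLib.CosetEnum.Fi24

open Fi24H (H hLetters perm)

theorem words_even : ∀ w ∈ words, w.length % 2 = 0 := by decide +kernel

/-- The sign of a product of the generators. -/
theorem exists_sign : ∃ ε : setup.Grp →* ℤˣ, ∀ x, x < 12 → ε (setup.g x) = -1 := by
  refine setup.exists_hom (fun _ => (-1 : ℤˣ)) (fun _ _ => by decide) fun w hw => ?_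
  have : ∀ v : List ℕ, prodw (fun _ => (-1 : ℤˣ)) v = (-1) ^ v.length := by
    intro v
    simp [prodw, List.map_const', List.prod_replicate]
  rw [this, ← Nat.mod_add_div w.length 2, words_even w hw, zero_add, pow_mul]
  simp

theorem sq_g (x : ℕ) : setup.g x * setup.g x = 1 := setup.of_sq _

theorem inv_g (x : ℕ) : (setup.g x)⁻¹ = setup.g x := inv_eq_of_mul_eq_one_right (sq_g x)

theorem braid_g (x y : ℕ) (h : [x, y, x, y, x, y] ∈ words) :
    setup.g x * setup.g y * setup.g x = setup.g y * setup.g x * setup.g y := by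
  have h1 := setup.prod_mem _ h
  simp only [prodw, List.map_cons, List.map_nil, List.prod_cons, List.prod_nil, mul_one] at h1
  have h2 : (setup.g x * setup.g y * setup.g x) * (setup.g y * setup.g x * setup.g y) = 1 := by
    simpa only [mul_assoc] using h1
  rw [eq_inv_of_mul_eq_one_left h2]
  simp only [mul_inv_rev, inv_g, mul_assoc]

theorem commute_g (x y : ℕ) (h : [x, y, x, y] ∈ words) :
    setup.g x * setup.g y = setup.g y * setup.g x := by
  have h1 := setup.prod_mem _ h
  simp only [prodw, List.map_cons, List.map_nil, List.prod_cons, List.prod_nil, mul_one] at h1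
  have h2 : (setup.g x * setup.g y) * (setup.g x * setup.g y) = 1 := by simpa only [mul_assoc] using h1
  rw [eq_inv_of_mul_eq_one_left h2]
  simp only [mul_inv_rev, inv_g]

theorem closure_g : Subgroup.closure (setup.g '' {x | x < 12}) = ⊤ := by
  rw [eq_top_iff, ← PresentedGroup.closure_range_of]
  refine Subgroup.closure_mono ?_
  rintro _ ⟨a, rfl⟩
  exact ⟨setup.ix a, setup.ix_lt a, by rw [Setup.g, setup.en_ix]⟩

theorem mod_commutator_eq (x : ℕ) (hx : x < 12) :
    (setup.g x : setup.Grp ⧸ commutator setup.Grp) = (setup.g 0 : setup.Grp ⧸ commutator setup.Grp) := by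
  have hcomm : ∀ a b : setup.Grp ⧸ commutator setup.Grp, a * b = b * a := by
    intro a b
    obtain ⟨a, rfl⟩ := QuotientGroup.mk_surjective a
    obtain ⟨b, rfl⟩ := QuotientGroup.mk_surjective b
    rw [← QuotientGroup.mk_mul, ← QuotientGroup.mk_mul, QuotientGroup.eq]
    rw [show (a * b)⁻¹ * (b * a) = b⁻¹ * a⁻¹ * (b⁻¹)⁻¹ * (a⁻¹)⁻¹ by group]
    exact Subgroup.commutator_mem_commutator (Subgroup.mem_top _) (Subgroup.mem_top _)
  have tri : ∀ a b, [a, b, a, b, a, b] ∈ words →
      (setup.g a : setup.Grp ⧸ commutator setup.Grp) = setup.g b := by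
    intro a b h
    have h1 := congrArg (fun z : setup.Grp => (z : setup.Grp ⧸ commutator setup.Grp)) (braid_g a b h)
    simp only [QuotientGroup.mk_mul] at h1
    rw [hcomm (setup.g a : setup.Grp ⧸ _) (setup.g b : setup.Grp ⧸ _)] at h1
    exact mul_left_cancel h1
  have e01 := tri 0 1 (by decide +kernel)
  have e12 := tri 1 2 (by decide +kernel)
  have e23 := tri 2 3 (by decide +kernel)
  have e34 := tri 3 4 (by decide +kernel)
  have e37 := tri 3 7 (by decide +kernel)
  have e45 := tri 4 5 (by decide +kernel)
  have e56 := tri 5 6 (by decide +kernel)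
  have e69 := tri 6 9 (by decide +kernel)
  have e78 := tri 7 8 (by decide +kernel)
  have e010 := tri 0 10 (by decide +kernel)
  have e1011 := tri 10 11 (by decide +kernel)
  have h3 := e01.trans (e12.trans e23)
  interval_cases x
  exacts [rfl, e01.symm, (e01.trans e12).symm, h3.symm, (h3.trans e34).symm, (h3.trans (e34.trans e45)).symm,
    (h3.trans (e34.trans (e45.trans e56))).symm, (h3.trans e37).symm, (h3.trans (e37.trans e78)).symm,
    (h3.trans (e34.trans (e45.trans (e56.trans e69)))).symm, e010.symm, (e010.trans e1011).symm]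

/-- The commutator subgroup consists of the elements of sign one. -/
theorem commutator_eq {ε : setup.Grp →* ℤˣ} (hε : ∀ x, x < 12 → ε (setup.g x) = -1) :
    commutator setup.Grp = ε.ker := by
  refine le_antisymm (Abelianization.commutator_subset_ker ε) fun y hy => ?_
  have key : ∀ z : setup.Grp, (ε z = 1 ∧ (z : setup.Grp ⧸ commutator setup.Grp) = 1) ∨
      (ε z = -1 ∧ (z : setup.Grp ⧸ commutator setup.Grp) = (setup.g 0 : setup.Grp ⧸ commutator setup.Grp)) := by
    intro z
    have hz : z ∈ Subgroup.closure (setup.g '' {x | x < 12}) := closure_g ▸ Subgroup.mem_top z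
    have h00 : (setup.g 0 : setup.Grp ⧸ commutator setup.Grp) * (setup.g 0 : setup.Grp ⧸ commutator setup.Grp) = 1 := by
      rw [← QuotientGroup.mk_mul, sq_g]
      rfl
    induction hz using Subgroup.closure_induction with
    | mem z hz =>
      obtain ⟨x, hx, rfl⟩ := hz
      exact Or.inr ⟨hε x hx, mod_commutator_eq x hx⟩
    | one => exact Or.inl ⟨map_one ε, rfl⟩
    | mul a b _ _ ha hb =>
      rcases ha with ⟨ha, ha'⟩ | ⟨ha, ha'⟩ <;> rcases hb with ⟨hb, hb'⟩ | ⟨hb, hb'⟩ <;>
        simp only [map_mul, QuotientGroup.mk_mul, ha, hb, ha', hb', h00] <;> simp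
    | inv a _ ha =>
      rcases ha with ⟨ha, ha'⟩ | ⟨ha, ha'⟩
      · exact Or.inl ⟨by rw [map_inv, ha, inv_one], by rw [QuotientGroup.mk_inv, ha', inv_one]⟩
      · exact Or.inr ⟨by rw [map_inv, ha]; rfl,
          by rw [QuotientGroup.mk_inv, ha', inv_eq_of_mul_eq_one_right h00]⟩
  rcases key y with ⟨-, h⟩ | ⟨h, -⟩
  · exact (QuotientGroup.eq_one_iff y).mp h
  · exact absurd ((MonoidHom.mem_ker.mp hy).symm.trans h) (by decide)

theorem index_commutator : (commutator setup.Grp).index = 2 := by
  obtain ⟨ε, hε⟩ := exists_sign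
  rw [commutator_eq hε, Subgroup.index_ker]
  have hs : ε.range = ⊤ := by
    rw [eq_top_iff]
    intro u _
    rcases Int.units_eq_one_or u with rfl | rfl
    · exact one_mem _
    · exact ⟨setup.g 0, hε 0 (by norm_num)⟩
  rw [hs, Subgroup.card_top]
  simp

theorem card_commutator : Nat.card (commutator setup.Grp) = 1255205709190661721292800 := by
  have h := Subgroup.card_mul_index (commutator setup.Grp)
  rw [index_commutator, show Nat.card setup.Grp = 2 * 1255205709190661721292800 from card_Fi24] at h
  omega

/-- The point stabiliser in the commutator subgroup is isomorphic to Fi23. -/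
theorem stabilizer_iso :
    Nonempty (Cfsg.Spor.Fi23 ≃* (H.subgroupOf (commutator setup.Grp))) := by
  obtain ⟨φ, e, hφ, he, he0, hinj, hG, hH, hZ, χ, hbij, hχ⟩ := order_and_action
  obtain ⟨ε, hε⟩ := exists_sign
  have hN := commutator_eq hε
  have hεl : ε (setup.g 11) = -1 := hε 11 (by norm_num)
  let inH : (H.subgroupOf (commutator setup.Grp)) →* H :=
    { toFun := fun y => ⟨((y : commutator setup.Grp) : setup.Grp), y.2⟩
      map_one' := rfl
      map_mul' := fun _ _ => rfl }
  let ρ := (QuotientGroup.mk' Z).comp inH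
  have hρ : Function.Bijective ρ := by
    constructor
    · rw [injective_iff_map_eq_one]
      intro y hy
      obtain ⟨m, hm⟩ := Subgroup.mem_zpowers_iff.mp ((QuotientGroup.eq_one_iff _).mp hy)
      have hval : ((y : commutator setup.Grp) : setup.Grp) = setup.g 11 ^ m := by
        simpa [inH, lH] using (congrArg Subtype.val hm).symm
      have h1 : ε ((y : commutator setup.Grp) : setup.Grp) = 1 :=
        MonoidHom.mem_ker.mp (hN ▸ (y : commutator setup.Grp).2)
      rw [hval, map_zpow, hεl] at h1
      refine Subtype.ext (Subtype.ext ?_)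
      show ((y : commutator setup.Grp) : setup.Grp) = 1
      rcases Int.even_or_odd m with ⟨r, rfl⟩ | ⟨r, rfl⟩
      · rw [hval, ← two_mul, zpow_mul, zpow_two, sq_g, one_zpow]
      · rw [zpow_add, zpow_mul, zpow_two] at h1
        simp at h1
    · intro q
      obtain ⟨⟨z, hz⟩, rfl⟩ := QuotientGroup.mk_surjective q
      rcases Int.units_eq_one_or (ε z) with h | h
      · exact ⟨⟨⟨z, hN ▸ MonoidHom.mem_ker.mpr h⟩, hz⟩, rfl⟩
      · refine ⟨⟨⟨z * setup.g 11, hN ▸ MonoidHom.mem_ker.mpr (by rw [map_mul, h, hεl]; rfl)⟩,
          mul_mem hz (g_mem_H 11 (by decide))⟩, ?_⟩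
        show (QuotientGroup.mk ((⟨z, hz⟩ : H) * lH) : H ⧸ Z) = _
        rw [QuotientGroup.mk_mul, (QuotientGroup.eq_one_iff lH).mpr (Subgroup.mem_zpowers lH), mul_one]
  exact ⟨(MulEquiv.ofBijective χ hbij).trans (MulEquiv.ofBijective ρ hρ).symm⟩

theorem not_529_dvd : ¬ 23 * 23 ∣ 2 * 4089470473293004800 := by norm_num

theorem isSimple_commutator : IsSimpleGroup (commutator setup.Grp) := by
  haveI := finite_grp
  haveI : Nontrivial (commutator setup.Grp) :=
    Finite.one_lt_card_iff_nontrivial.mp (by rw [card_commutator]; norm_num)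
  obtain ⟨φ, e, hφ, he, he0, hinj, hG, hH, -⟩ := order_and_action
  obtain ⟨ε, hε⟩ := exists_sign
  have hN := commutator_eq hε
  obtain ⟨iso⟩ := stabilizer_iso
  haveI : IsSimpleGroup Cfsg.Spor.Fi23 := Fi23.isSimpleGroup_Fi23
  haveI : IsSimpleGroup (H.subgroupOf (commutator setup.Grp)) := iso.symm.isSimpleGroup
  set H0 := H.subgroupOf (commutator setup.Grp) with hH0
  have hH0card : Nat.card H0 = 4089470473293004800 := by
    rw [← Nat.card_congr iso.toEquiv, Fi23.card_Fi23]
  have heven : ∀ x, x < 12 → setup.g x * setup.g 0 ∈ commutator setup.Grp := fun x hx => by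
    rw [hN, MonoidHom.mem_ker, map_mul, hε x hx, hε 0 (by norm_num)]
    rfl
  refine ⟨fun M hM => ?_⟩
  haveI := hM
  rcases Subgroup.Normal.eq_bot_or_eq_top (inferInstance : (M.subgroupOf H0).Normal) with h | h
  · left
    -- the subgroup meets the stabiliser trivially
    by_contra hbot
    have hMH : ∀ y ∈ M, (y : setup.Grp) ∈ H → y = 1 := fun y hy hyH => by
      have : (⟨y, hyH⟩ : H0) ∈ M.subgroupOf H0 := Subgroup.mem_subgroupOf.mpr hy
      rw [h, Subgroup.mem_bot] at this
      exact congrArg Subtype.val this
    have hd : Nat.card M ∣ 306936 := by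
      have hinf : M ⊓ H0 = ⊥ := by
        rw [eq_bot_iff]
        rintro y ⟨h1, h2⟩
        exact Subgroup.mem_bot.mpr (hMH y h1 h2)
      have h1 : M.relIndex (H0 ⊔ M) = Nat.card H0 := by
        rw [Subgroup.relIndex_sup_right, ← Subgroup.inf_relIndex_right, hinf, Subgroup.relIndex_bot_left]
      have h2 := Subgroup.relIndex_mul_relIndex ⊥ M (H0 ⊔ M) bot_le le_sup_right
      rw [Subgroup.relIndex_bot_left, Subgroup.relIndex_bot_left, h1] at h2
      have h3 := Subgroup.card_subgroup_dvd_card (H0 ⊔ M)
      rw [← h2, card_commutator, hH0card] at h3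
      exact Nat.dvd_of_mul_dvd_mul_right (show 0 < 4089470473293004800 by norm_num)
        (h3.trans (by norm_num))
    haveI : _root_.Fact (Nat.Prime 23) := ⟨by norm_num⟩
    obtain ⟨t, ht⟩ := exists_prime_orderOf_dvd_card' (G := H0) 23 (by rw [hH0card]; norm_num)
    -- an element of order 23 of the stabiliser fixes only the base point
    have honly : ∀ i : Fin 306936, φ ((t : commutator setup.Grp) : setup.Grp) i = i → i = 0 := by
      intro i hi
      by_contra hne
      have hne' : i.val ≠ 0 := fun h => hne (Fin.ext h)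
      have hcard : Nat.card (H.map φ) = 2 * 4089470473293004800 := by
        rw [Subgroup.card_map_of_injective hinj, hH]
      let t' : MulAction.stabilizer (H.map φ) i :=
        ⟨⟨φ ((t : commutator setup.Grp) : setup.Grp), _, t.2, rfl⟩, hi⟩
      have ht' : orderOf t' = 23 := by
        rw [← Subgroup.orderOf_coe, ← Subgroup.orderOf_coe]
        show orderOf (φ ((t : commutator setup.Grp) : setup.Grp)) = 23
        rw [orderOf_injective φ hinj, Subgroup.orderOf_coe, Subgroup.orderOf_coe, ht]
      have h23 : 23 ∣ Nat.card (MulAction.stabilizer (H.map φ) i) := by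
        rw [← ht']
        exact orderOf_dvd_natCard t'
      have hprod := Subgroup.card_mul_index (MulAction.stabilizer (H.map φ) i)
      rw [MulAction.index_stabilizer, orbit_length hφ i hne', hcard] at hprod
      refine not_529_dvd ?_
      rw [← hprod]
      refine Nat.mul_dvd_mul h23 ?_
      split <;> norm_num
    have hd1 : Nat.card M ≠ 1 := fun h => hbot (Subgroup.card_eq_one.mp h)
    obtain ⟨p, hp, hpd⟩ := Nat.exists_prime_and_dvd hd1
    haveI : _root_.Fact p.Prime := ⟨hp⟩
    obtain ⟨P⟩ : Nonempty (Sylow p M) := inferInstance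
    set P' := (P : Subgroup M).map M.subtype with hP'
    set R := Subgroup.normalizer (P' : Set (commutator setup.Grp)) with hR
    have hsup : R ⊔ M = ⊤ := Sylow.normalizer_sup_eq_top P
    have h23R : 23 ∣ Nat.card R := by
      have h1 : M.relIndex R = M.index := by
        rw [← Subgroup.relIndex_sup_right, hsup, Subgroup.relIndex_top_right]
      have h2 : 23 ∣ M.index := by
        have h3 := Subgroup.card_mul_index M
        rcases (Nat.Prime.dvd_mul (show Nat.Prime 23 by norm_num)).mp
          (show 23 ∣ Nat.card M * M.index by rw [h3, card_commutator]; norm_num) with h | h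
        · exact absurd (h.trans hd) (by norm_num)
        · exact h
      exact (h1 ▸ h2).trans (Subgroup.relIndex_dvd_card M R)
    obtain ⟨s, hs⟩ := exists_prime_orderOf_dvd_card' (G := R) 23 h23R
    have hPcard : Nat.card P' ∣ 306936 ∧ Nat.card P' ≠ 1 ∧ ∃ k, Nat.card P' = p ^ k := by
      rw [Subgroup.card_map_of_injective M.subtype_injective]
      refine ⟨(Subgroup.card_subgroup_dvd_card _).trans hd, fun h => ?_, P.2.exists_card_eq⟩
      have := P.card_eq_multiplicity
      rw [show Nat.card (P : Subgroup M) = 1 from h] at this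
      have h2 := (Nat.Prime.factorization_pos_of_dvd hp Nat.card_pos.ne' hpd)
      have h3 := Nat.one_lt_pow h2.ne' hp.one_lt
      omega
    have hne1 : ¬ Nat.card P' ≡ 1 [MOD 23] := by
      obtain ⟨hdv, hc1, k, hk⟩ := hPcard
      rw [hk] at hdv hc1 ⊢
      have hp' : p ∈ Nat.primeFactorsList 306936 :=
        (Nat.mem_primeFactorsList (by norm_num)).mpr ⟨hp, hpd.trans hd⟩
      rw [show Nat.primeFactorsList 306936 = [2, 2, 2, 3, 3, 3, 7, 7, 29] by decide +kernel] at hp'
      have hk4 : k < 4 := by
        by_contra hk4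
        have h4 : p ^ 4 ∣ 306936 := (pow_dvd_pow p (by omega)).trans hdv
        fin_cases hp' <;> norm_num at h4
      fin_cases hp' <;> interval_cases k <;> first | (simp at hc1; done) | decide | (norm_num at hdv; done)
    obtain ⟨y, hyP, hy1, hys⟩ : ∃ y ∈ P', y ≠ 1 ∧ y * (s : commutator setup.Grp) = s * y := by
      let act : MulAction (Subgroup.zpowers (s : commutator setup.Grp)) P' :=
        { smul := fun z y => ⟨z * y * (z : commutator setup.Grp)⁻¹, by
            have hz : (z : commutator setup.Grp) ∈ R := (Subgroup.zpowers_le.mpr s.2) z.2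
            exact (Subgroup.mem_normalizer_iff.mp hz y.1).mp y.2⟩
          one_smul := fun y => Subtype.ext (by
            show (1 : commutator setup.Grp) * y * (1 : commutator setup.Grp)⁻¹ = y
            simp)
          mul_smul := fun a b y => Subtype.ext (by
            show (a * b : commutator setup.Grp) * y * (a * b : commutator setup.Grp)⁻¹ =
              a * (b * y * (b : commutator setup.Grp)⁻¹) * (a : commutator setup.Grp)⁻¹
            simp [mul_assoc]) }
      have hpg : IsPGroup 23 (Subgroup.zpowers (s : commutator setup.Grp)) :=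
        IsPGroup.of_card (n := 1) (by rw [Nat.card_zpowers, Subgroup.orderOf_coe, hs, pow_one])
      have hmod := @IsPGroup.card_modEq_card_fixedPoints 23 _ _ hpg _ P' act _
      by_contra hall
      push Not at hall
      refine hne1 (hmod.trans ?_)
      rw [show Nat.card (MulAction.fixedPoints (Subgroup.zpowers (s : commutator setup.Grp)) P') = 1 from
        Nat.card_eq_one_iff_exists.mpr ⟨⟨1, fun z => Subtype.ext (by
          show (z : commutator setup.Grp) * 1 * (z : commutator setup.Grp)⁻¹ = 1
          simp)⟩, fun ⟨y, hy⟩ => Subtype.ext (Subtype.ext (by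
            by_contra hne
            have h := congrArg Subtype.val (hy ⟨s, Subgroup.mem_zpowers _⟩)
            change (s : commutator setup.Grp) * y * (s : commutator setup.Grp)⁻¹ = y at h
            rw [mul_inv_eq_iff_eq_mul] at h
            exact hall y.1 y.2 hne h.symm))⟩]
    have h23 : Nat.factorization (Nat.card (commutator setup.Grp)) 23 = 1 := by
      rw [card_commutator, show (1255205709190661721292800 : ℕ) = 23 * 54574161269159205273600 by norm_num,
        Nat.factorization_mul (by norm_num) (by norm_num), Finsupp.add_apply,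
        Nat.Prime.factorization_self (by norm_num), Nat.factorization_eq_zero_of_not_dvd (by norm_num)]
    let S₁ : Sylow 23 (commutator setup.Grp) := Sylow.ofCard (Subgroup.zpowers (s : commutator setup.Grp)) (by
      rw [Nat.card_zpowers, Subgroup.orderOf_coe, hs, h23, pow_one])
    let S₂ : Sylow 23 (commutator setup.Grp) := Sylow.ofCard (Subgroup.zpowers (t : commutator setup.Grp)) (by
      rw [Nat.card_zpowers, Subgroup.orderOf_coe, ht, h23, pow_one])
    obtain ⟨g, hg'⟩ := MulAction.exists_smul_eq (commutator setup.Grp) S₁ S₂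
    have htm : (t : commutator setup.Grp) ∈
        ((g • S₁ : Sylow 23 (commutator setup.Grp)) : Subgroup (commutator setup.Grp)) := by
      rw [hg']
      exact Subgroup.mem_zpowers _
    rw [Sylow.coe_subgroup_smul, Subgroup.mem_pointwise_smul_iff_inv_smul_mem] at htm
    obtain ⟨m, hm⟩ := htm
    have hc : (g * y * g⁻¹) * (t : commutator setup.Grp) = t * (g * y * g⁻¹) := by
      have hmy : y * (s : commutator setup.Grp) ^ m = (s : commutator setup.Grp) ^ m * y :=
        (Commute.zpow_right hys m).eq
      simp only [MulAut.smul_def, ← map_inv, MulAut.conj_apply, inv_inv] at hm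
      rw [hm] at hmy
      calc g * y * g⁻¹ * t = g * (y * (g⁻¹ * t * g)) * g⁻¹ := by group
        _ = g * (g⁻¹ * t * g * y) * g⁻¹ := by rw [hmy]
        _ = t * (g * y * g⁻¹) := by group
    have hzM : g * y * g⁻¹ ∈ M := hM.conj_mem y (Subgroup.map_subtype_le _ hyP) g
    have hfix : φ ((t : commutator setup.Grp) : setup.Grp)
        (φ ((g * y * g⁻¹ : commutator setup.Grp) : setup.Grp) 0) =
        φ ((g * y * g⁻¹ : commutator setup.Grp) : setup.Grp) 0 := by
      rw [← Equiv.Perm.mul_apply, ← map_mul, ← Subgroup.coe_mul, ← hc, Subgroup.coe_mul, map_mul,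
        Equiv.Perm.mul_apply, (mem_H_iff he he0 ((t : commutator setup.Grp) : setup.Grp)).mpr t.2]
    have hz1 := hMH _ hzM ((mem_H_iff he he0 _).mp (honly _ hfix))
    exact hy1 (by simpa using hz1)
  · right
    -- the subgroup contains the stabiliser
    set M' := M.map (commutator setup.Grp).subtype with hM'
    have hsub : ∀ y, y ∈ H → y ∈ commutator setup.Grp → y ∈ M' := fun y hy hy' => by
      have : (⟨⟨y, hy'⟩, hy⟩ : H0) ∈ M.subgroupOf H0 := h.symm ▸ Subgroup.mem_top _
      exact ⟨⟨y, hy'⟩, Subgroup.mem_subgroupOf.mp this, rfl⟩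
    have hH2 : ∀ x ∈ hLetters, setup.g x * setup.g 0 ∈ M' := fun x hx =>
      hsub _ (mul_mem (g_mem_H x hx) (g_mem_H 0 (by decide))) (heven x (hLetters_lt x hx))
    have hk : setup.g 10 * setup.g 0 ∈ M' := by
      have h01 : setup.g 0 * setup.g 1 ∈ M' := by
        have := inv_mem (hH2 1 (by decide))
        rwa [mul_inv_rev, inv_g, inv_g] at this
      obtain ⟨m, hm, hmv⟩ := h01
      have hn : setup.g 10 * setup.g 1 ∈ commutator setup.Grp := by
        rw [hN, MonoidHom.mem_ker, map_mul, hε 10 (by norm_num), hε 1 (by norm_num)]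
        rfl
      have hc : setup.g 10 * setup.g 1 * (setup.g 0 * setup.g 1) * (setup.g 10 * setup.g 1)⁻¹ ∈ M' :=
        ⟨_, hM.conj_mem m hm ⟨_, hn⟩, by
          show ((⟨_, hn⟩ : commutator setup.Grp) * m * (⟨_, hn⟩ : commutator setup.Grp)⁻¹ : setup.Grp) = _
          change (m : setup.Grp) = setup.g 0 * setup.g 1 at hmv
          rw [hmv]
          rfl⟩
      have hprod := mul_mem (⟨m, hm, hmv⟩ : setup.g 0 * setup.g 1 ∈ M') hc
      have hb : setup.g 1 * setup.g 10 = setup.g 10 * setup.g 1 := commute_g 1 10 (by decide +kernel)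
      have hak : setup.g 0 * setup.g 10 * setup.g 0 = setup.g 10 * setup.g 0 * setup.g 10 :=
        braid_g 0 10 (by decide +kernel)
      have e : setup.g 10 * setup.g 0 = setup.g 0 * setup.g 1 *
          (setup.g 10 * setup.g 1 * (setup.g 0 * setup.g 1) * (setup.g 10 * setup.g 1)⁻¹) := by
        calc setup.g 10 * setup.g 0
            = setup.g 0 * (setup.g 0 * setup.g 10 * setup.g 0) := by
              simp only [← mul_assoc, sq_g, one_mul]
          _ = setup.g 0 * (setup.g 10 * setup.g 0 * setup.g 10) := by rw [hak]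
          _ = setup.g 0 * ((setup.g 1 * setup.g 1) * (setup.g 10 * setup.g 0 * setup.g 10)) := by
              rw [sq_g, one_mul]
          _ = setup.g 0 * setup.g 1 * ((setup.g 1 * setup.g 10) * setup.g 0 * setup.g 10) := by
              simp only [mul_assoc]
          _ = setup.g 0 * setup.g 1 * ((setup.g 10 * setup.g 1) * setup.g 0 * setup.g 10) := by rw [hb]
          _ = _ := by
              simp only [mul_inv_rev, inv_g, mul_assoc]
              rw [← mul_assoc (setup.g 1) (setup.g 1), sq_g, one_mul]
      rw [e]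
      exact hprod
    have hgen : ∀ x, x < 12 → setup.g x * setup.g 0 ∈ M' := fun x hx => by
      rcases eq_or_ne x 10 with rfl | hne
      · exact hk
      · exact hH2 x (by simp only [hLetters, List.mem_cons, List.not_mem_nil, or_false]; omega)
    let K := Subgroup.closure ((fun x => setup.g x * setup.g 0) '' {x | x < 12})
    have hK : K ≤ M' := (Subgroup.closure_le _).mpr (by rintro _ ⟨x, hx, rfl⟩; exact hgen x hx)
    have hKg : ∀ a ∈ K, setup.g 0 * a * setup.g 0 ∈ K := by
      intro a ha
      induction ha using Subgroup.closure_induction with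
      | mem a ha =>
        obtain ⟨x, hx, rfl⟩ := ha
        have := inv_mem (Subgroup.subset_closure (show setup.g x * setup.g 0 ∈
          (fun x => setup.g x * setup.g 0) '' {x | x < 12} from ⟨x, hx, rfl⟩) : setup.g x * setup.g 0 ∈ K)
        rw [mul_inv_rev, inv_g, inv_g] at this
        simpa only [mul_assoc, sq_g, mul_one] using this
      | one => rw [mul_one, sq_g]; exact one_mem _
      | mul a b _ _ ha hb =>
        have := mul_mem ha hb
        rwa [show setup.g 0 * a * setup.g 0 * (setup.g 0 * b * setup.g 0) =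
          setup.g 0 * a * (setup.g 0 * setup.g 0) * b * setup.g 0 by group, sq_g, mul_one,
          show setup.g 0 * a * b * setup.g 0 = setup.g 0 * (a * b) * setup.g 0 by group] at this
      | inv a _ ha =>
        have := inv_mem ha
        rwa [mul_inv_rev, mul_inv_rev, inv_g, ← mul_assoc] at this
    have key : ∀ z : setup.Grp, z ∈ K ∨ z * setup.g 0 ∈ K := by
      intro z
      have hz : z ∈ Subgroup.closure (setup.g '' {x | x < 12}) := closure_g ▸ Subgroup.mem_top z
      induction hz using Subgroup.closure_induction with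
      | mem z hz =>
        obtain ⟨x, hx, rfl⟩ := hz
        exact Or.inr (Subgroup.subset_closure ⟨x, hx, rfl⟩)
      | one => exact Or.inl (one_mem _)
      | mul a b _ _ ha hb =>
        rcases ha with ha | ha <;> rcases hb with hb | hb
        · exact Or.inl (mul_mem ha hb)
        · exact Or.inr (by rw [mul_assoc]; exact mul_mem ha hb)
        · refine Or.inr ?_
          have := mul_mem ha (hKg b hb)
          rwa [show a * setup.g 0 * (setup.g 0 * b * setup.g 0) =
            a * (setup.g 0 * setup.g 0) * b * setup.g 0 by group, sq_g, mul_one] at this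
        · refine Or.inl ?_
          have := mul_mem ha (hKg _ hb)
          rwa [show a * setup.g 0 * (setup.g 0 * (b * setup.g 0) * setup.g 0) =
            a * (setup.g 0 * setup.g 0) * b * (setup.g 0 * setup.g 0) by group, sq_g, mul_one, mul_one] at this
      | inv a _ ha =>
        rcases ha with ha | ha
        · exact Or.inl (inv_mem ha)
        · refine Or.inr ?_
          have := hKg _ (inv_mem ha)
          rwa [mul_inv_rev, inv_g, ← mul_assoc, sq_g, one_mul] at this
    rw [eq_top_iff]
    rintro ⟨y, hy⟩ -
    have hyK : y ∈ K := (key y).resolve_right fun hy' => by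
      have h2 : y * setup.g 0 ∈ commutator setup.Grp := Subgroup.map_subtype_le _ (hK hy')
      rw [hN, MonoidHom.mem_ker] at h2 hy
      rw [map_mul, hy, one_mul, hε 0 (by norm_num)] at h2
      exact absurd h2 (by decide)
    obtain ⟨m, hm, hmv⟩ := hK hyK
    rwa [show (⟨y, hy⟩ : commutator setup.Grp) = m from Subtype.ext hmv.symm]

theorem isFi24' : Cfsg.IsFi24' Cfsg.Spor.Fi24' := ⟨isSimple_commutator, card_commutator⟩

end CfsgLib.CosetEnum.Fi24
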