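import Cfsg.Agent.CosetEnum.Fi24.Order
import Cfsg.Agent.CosetEnum.Fi24H.Orbit

set_option autoImplicit false
set_option maxRecDepth 100000

/-!
The point stabiliser of the presented Fi24 has suborbits of lengths 31671 and 275264.
-/

namespace CfsgLib.CosetEnum.Fi24

open Fi24H (H hLetters perm lab uAt orbEntry isSmall)

/-- The suborbit of a coset: 0, 1 (length 275264) or 2 (length 31671). -/
noncomputable def which (i : ℕ) : ℕ := lab i &&& 3

theorem hLetters_lt (x : ℕ) (hx : x ∈ hLetters) : x < 12 := by
  simp only [hLetters, List.mem_cons, List.not_mem_nil, or_false] at hx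
  omega

theorem label_spec (i : ℕ) (hi : i < 306936) :
    (∀ x ∈ hLetters, which (Fi24H.T x i) = which i) ∧ (i = 0 → which i = 0) ∧
    (i ≠ 0 → (which i = 1 ∨ which i = 2) ∧
      ((lab i >>> 6 = 0 ∧ i = (if which i = 1 then 1 else 8)) ∨
        ∃ x ∈ hLetters, which (Fi24H.T x i) = which i ∧ lab (Fi24H.T x i) >>> 6 + 1 = lab i >>> 6)) := by
  have h := Fi24H.orb_all i (Nat.zero_le _) hi
  unfold orbEntry at h
  rw [show Nat.blt i 306936 = true by simpa using hi] at h
  simp only [cond_true, force_eq, Bool.and_eq_true, Nat.beq_eq] at h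
  obtain ⟨h1, hcl⟩ := h
  refine ⟨fun x hx => ?_, ?_, ?_⟩
  · simp only [hLetters, List.mem_cons, List.not_mem_nil, or_false] at hx
    simp only [and_assoc] at hcl
    rcases hx with rfl | rfl | rfl | rfl | rfl | rfl | rfl | rfl | rfl | rfl | rfl
    exacts [hcl.1, hcl.2.1, hcl.2.2.1, hcl.2.2.2.1, hcl.2.2.2.2.1, hcl.2.2.2.2.2.1,
      hcl.2.2.2.2.2.2.1, hcl.2.2.2.2.2.2.2.1, hcl.2.2.2.2.2.2.2.2.1, hcl.2.2.2.2.2.2.2.2.2.1,
      hcl.2.2.2.2.2.2.2.2.2.2]
  · rintro rfl
    rw [show Nat.beq 0 0 = true from rfl] at h1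
    simp only [cond_true, Nat.beq_eq] at h1
    exact h1
  · intro hne
    rw [show Nat.beq i 0 = false by
      cases hh : Nat.beq i 0
      · rfl
      · exact absurd (Nat.eq_of_beq_eq_true hh) hne] at h1
    simp only [cond_false, Bool.and_eq_true, Bool.or_eq_true, Nat.beq_eq] at h1
    obtain ⟨hw, h2⟩ := h1
    change which i = 1 ∨ which i = 2 at hw
    refine ⟨hw, ?_⟩
    cases hd : Nat.beq (Nat.shiftRight (lab i) 6) 0
    · right
      rw [hd] at h2
      simp only [cond_false, Bool.and_eq_true, Bool.or_eq_true, Nat.blt_eq, Nat.beq_eq] at h2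
      obtain ⟨⟨hx, hx'⟩, hj1, hj2⟩ := h2
      generalize Nat.land (Nat.shiftRight (lab i) 2) 15 = x at hx hx' hj1 hj2
      have hmem : x ∈ hLetters := by
        simp only [hLetters, List.mem_cons, List.not_mem_nil, or_false]
        omega
      rw [Fi24H.uAt_eq x i hx] at hj1 hj2
      exact ⟨x, hmem, hj1, hj2⟩
    · left
      rw [hd] at h2
      simp only [cond_true, Nat.beq_eq] at h2
      refine ⟨Nat.eq_of_beq_eq_true hd, ?_⟩
      rcases hw with hw | hw
      · rw [show Nat.land (lab i) 3 = 1 from hw] at h2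
        rw [hw, if_pos rfl]
        exact h2
      · rw [show Nat.land (lab i) 3 = 2 from hw] at h2
        rw [hw, if_neg (by norm_num)]
        exact h2

variable {φ : setup.Grp →* Equiv.Perm (Fin 306936)}
  (hφ : ∀ x, x < 12 → φ (setup.g x) = perm Fi24H.fix_all x)

include hφ in
theorem which_apply (y : setup.Grp) (hy : y ∈ H) :
    ∀ i : Fin 306936, which (φ y i).val = which i.val := by
  induction hy using Subgroup.closure_induction with
  | mem y hy =>
    obtain ⟨x, hx, rfl⟩ := hy
    intro i
    rw [hφ x (hLetters_lt x hx), Fi24H.perm_apply _ _ (hLetters_lt x hx)]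
    exact (label_spec i i.2).1 x hx
  | one => simp
  | mul a b _ _ ha hb => intro i; rw [map_mul, Equiv.Perm.mul_apply, ha, hb]
  | inv a _ ha =>
    intro i
    have := ha ((φ a)⁻¹ i)
    rw [Equiv.Perm.inv_def, Equiv.apply_symm_apply] at this
    rw [map_inv]
    exact this.symm

/-- The representative of a suborbit. -/
def root (w : ℕ) : Fin 306936 := if w = 1 then ⟨1, by norm_num⟩ else ⟨8, by norm_num⟩

include hφ in
theorem exists_mem_apply_root (i : Fin 306936) (hi : i.val ≠ 0) :
    ∃ y ∈ H, φ y (root (which i.val)) = i := by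
  suffices h : ∀ d, ∀ i : Fin 306936, i.val ≠ 0 → lab i.val >>> 6 = d →
      ∃ y ∈ H, φ y (root (which i.val)) = i from h _ i hi rfl
  intro d
  induction d using Nat.strong_induction_on with
  | _ d ih =>
    intro i hne hd
    obtain ⟨hw, ⟨-, hroot⟩ | ⟨x, hx, hwx, hdx⟩⟩ := (label_spec i i.2).2.2 hne
    · refine ⟨1, one_mem _, ?_⟩
      rw [map_one, Equiv.Perm.one_apply]
      refine Fin.ext ?_
      rcases hw with hw | hw <;> rw [hw] at hroot ⊢ <;> exact hroot.symm
    · have hx12 := hLetters_lt x hx
      have hlt := (Fi24H.T_valid Fi24H.fix_all i x i.2 hx12)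
      let j : Fin 306936 := ⟨Fi24H.T x i, hlt.1⟩
      have hj0 : j.val ≠ 0 := fun h => by
        have h0 := (label_spec 0 (by norm_num)).2.1 rfl
        change Fi24H.T x i = 0 at h
        rw [h, h0] at hwx
        omega
      obtain ⟨y, hy, hyj⟩ := ih (lab (Fi24H.T x i) >>> 6) (by omega) j hj0 rfl
      refine ⟨setup.g x * y, mul_mem (g_mem_H x hx) hy, ?_⟩
      rw [map_mul, Equiv.Perm.mul_apply]
      change φ (setup.g x) (φ y (root (which i.val))) = i
      rw [show root (which i.val) = root (which j.val) from congrArg root hwx.symm, hyj, hφ x hx12]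
      refine Fin.ext ?_
      rw [Fi24H.perm_apply _ _ hx12]
      exact hlt.2

theorem card_small : Nat.card {i : Fin 306936 // which i.val = 2} = 31671 := by
  rw [Nat.card_eq_fintype_card, Fintype.card_subtype, ← Finset.card_map Fin.valEmbedding]
  refine (congrArg Finset.card ?_).trans Fi24H.small_total.card
  ext i
  simp only [Finset.mem_map, Finset.mem_filter, Finset.mem_univ, true_and, Fin.valEmbedding_apply,
    Finset.mem_Ico, Nat.zero_le, isSmall, Bool.and_eq_true, Nat.blt_eq, Nat.beq_eq]
  constructor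
  · rintro ⟨a, ha, rfl⟩
    exact ⟨lt_trans a.2 (by norm_num), a.2, ha⟩
  · rintro ⟨-, hi, h⟩
    exact ⟨⟨i, hi⟩, h, rfl⟩

theorem card_large : Nat.card {i : Fin 306936 // which i.val = 1} = 275264 := by
  have h2 := card_small
  simp only [Nat.card_eq_fintype_card, Fintype.card_subtype] at h2 ⊢
  have hsplit : (Finset.univ : Finset (Fin 306936)) =
      (Finset.univ.filter fun i : Fin 306936 => which i.val = 1) ∪
        (Finset.univ.filter fun i : Fin 306936 => which i.val = 2) ∪ {⟨0, by norm_num⟩} := by
    ext i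
    simp only [Finset.mem_univ, Finset.mem_union, Finset.mem_filter, true_and, Finset.mem_singleton,
      true_iff]
    by_cases hi : i.val = 0
    · exact Or.inr (Fin.ext hi)
    · exact Or.inl ((label_spec i i.2).2.2 hi).1
  have h0 := (label_spec 0 (by norm_num)).2.1 rfl
  have hc := congrArg Finset.card hsplit
  rw [Finset.card_union_of_disjoint, Finset.card_union_of_disjoint, Finset.card_univ, Fintype.card_fin,
    Finset.card_singleton, h2] at hc
  · omega
  · exact Finset.disjoint_filter.mpr fun i _ h h' => by omega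
  · rw [Finset.disjoint_singleton_right]
    simp [h0]

include hφ in
/-- The length of a suborbit. -/
theorem orbit_length (i : Fin 306936) (hi : i.val ≠ 0) :
    (MulAction.orbit (H.map φ) i).ncard = if which i.val = 1 then 275264 else 31671 := by
  have hset : MulAction.orbit (H.map φ) i = {j : Fin 306936 | which j.val = which i.val} := by
    ext j
    constructor
    · rintro ⟨⟨p, y, hy, rfl⟩, rfl⟩
      exact which_apply hφ y hy i
    · intro hj
      have hj0 : j.val ≠ 0 := fun h => by
        have h0 := (label_spec 0 (by norm_num)).2.1 rfl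
        have hw := ((label_spec i i.2).2.2 hi).1
        change which j.val = which i.val at hj
        rw [h, h0] at hj
        omega
      obtain ⟨a, ha, hai⟩ := exists_mem_apply_root hφ i hi
      obtain ⟨b, hb, hbj⟩ := exists_mem_apply_root hφ j hj0
      refine ⟨⟨φ (b * a⁻¹), _, mul_mem hb (inv_mem ha), rfl⟩, ?_⟩
      show φ (b * a⁻¹) i = j
      rw [map_mul, map_inv, Equiv.Perm.mul_apply]
      conv_rhs => rw [← hbj]
      refine congrArg (φ b) ?_
      rw [Equiv.Perm.inv_eq_iff_eq, show root (which j.val) = root (which i.val) from congrArg root hj, hai]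
  rw [hset, ← Nat.card_coe_set_eq]
  rcases ((label_spec i i.2).2.2 hi).1 with hw | hw
  · rw [if_pos hw, hw]
    exact card_large
  · rw [if_neg (by omega), hw]
    exact card_small

end CfsgLib.CosetEnum.Fi24
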