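import Cfsg.Agent.CosetEnum.Fi24.Simple

set_option autoImplicit false
set_option maxRecDepth 100000

/-! The class of 306936 three-transpositions of the presented Fi24. -/

namespace CfsgLib.CosetEnum.Fi24

open Fi24H (H hLetters perm)

theorem point_facts : Fi24H.T 10 0 = 1 ∧ Fi24H.T 10 (Fi24H.T 0 (Fi24H.T 11 (Fi24H.T 10 0))) = 8 ∧
    Fi24H.T 11 8 = 8 := by
  refine ⟨?_, ?_, ?_⟩ <;> exact Nat.eq_of_beq_eq_true (by decide +kernel)

theorem conj_eq (x y : ℕ) (h : [x, y, x, y, x, y] ∈ words) :
    (setup.g x * setup.g y) * setup.g x * (setup.g x * setup.g y)⁻¹ = setup.g y := by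
  rw [mul_inv_rev, inv_g, inv_g, braid_g x y h]
  simp [mul_assoc, ← mul_assoc (setup.g x) (setup.g x), ← mul_assoc (setup.g y) (setup.g y), sq_g]

/-- The representative of the short suborbit. -/
theorem short_rep : setup.g 10 * setup.g 0 * setup.g 11 * setup.g 10 * setup.g 11 *
    (setup.g 10 * setup.g 0 * setup.g 11 * setup.g 10)⁻¹ = setup.g 0 := by
  have h1 : setup.g 11 * setup.g 10 * setup.g 11 * setup.g 10 * setup.g 11 = setup.g 10 := by
    have hb := braid_g 10 11 (by decide +kernel)
    rw [← hb]
    simp [mul_assoc, ← mul_assoc (setup.g 10) (setup.g 10), ← mul_assoc (setup.g 11) (setup.g 11), sq_g]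
  have h2 : setup.g 10 * setup.g 0 * setup.g 10 * setup.g 0 * setup.g 10 = setup.g 0 := by
    have hb := braid_g 0 10 (by decide +kernel)
    rw [← hb]
    simp [mul_assoc, ← mul_assoc (setup.g 10) (setup.g 10), ← mul_assoc (setup.g 0) (setup.g 0), sq_g]
  calc setup.g 10 * setup.g 0 * setup.g 11 * setup.g 10 * setup.g 11 *
        (setup.g 10 * setup.g 0 * setup.g 11 * setup.g 10)⁻¹
      = setup.g 10 * setup.g 0 * (setup.g 11 * setup.g 10 * setup.g 11 * setup.g 10 * setup.g 11) *
          setup.g 0 * setup.g 10 := by simp only [mul_inv_rev, inv_g, mul_assoc]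
    _ = setup.g 0 := by rw [h1, h2]

theorem centralizer_eq : Subgroup.centralizer ({setup.g 11} : Set setup.Grp) = H := by
  haveI := finite_grp
  obtain ⟨φ, e, hφ, he, he0, hinj, hG, hH, -⟩ := order_and_action
  set C := Subgroup.centralizer ({setup.g 11} : Set setup.Grp) with hC
  have hHC : H ≤ C := by
    refine (Subgroup.closure_le _).mpr ?_
    rintro _ ⟨x, hx, rfl⟩
    rw [SetLike.mem_coe, Subgroup.mem_centralizer_singleton_iff]
    exact (comm_l x hx).symm
  refine le_antisymm (fun c hc => ?_) hHC
  by_contra hcH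
  have hl : φ (setup.g 11) 0 = 0 := (mem_H_iff he he0 _).mpr (g_mem_H 11 (by decide))
  have hfix : ∀ y ∈ C, φ (setup.g 11) (φ y 0) = φ y 0 := fun y hy => by
    rw [← Equiv.Perm.mul_apply, ← map_mul, ← Subgroup.mem_centralizer_singleton_iff.mp hy, map_mul,
      Equiv.Perm.mul_apply, hl]
  have hw0 := (label_spec 0 (by norm_num)).2.1 rfl
  have hno1 : ∀ y ∈ C, which (φ y 0).val ≠ 1 := fun y hy h1 => by
    have hne : (φ y 0).val ≠ 0 := fun h => by
      rw [h, hw0] at h1
      omega
    obtain ⟨a, ha, hay⟩ := exists_mem_apply_root hφ (φ y 0) hne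
    rw [h1] at hay
    have h2 := hfix (a⁻¹ * y) (mul_mem (inv_mem (hHC ha)) hy)
    rw [map_mul, map_inv, Equiv.Perm.mul_apply, Equiv.Perm.inv_eq_iff_eq.mpr hay.symm, hφ 11 (by norm_num)] at h2
    have h3 := congrArg Fin.val h2
    rw [Fi24H.perm_apply _ _ (by norm_num)] at h3
    change Fi24H.T 11 1 = 1 at h3
    rw [moves_one.2] at h3
    omega
  have hc0 : (φ c 0).val ≠ 0 := fun h => hcH ((mem_H_iff he he0 c).mp (Fin.ext h))
  have hc2 : which (φ c 0).val = 2 :=
    ((label_spec _ (φ c 0).2).2.2 hc0).1.resolve_left (hno1 c hc)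
  have hset : MulAction.orbit (C.map φ) (0 : Fin 306936) =
      {j : Fin 306936 | which j.val = 0 ∨ which j.val = 2} := by
    ext j
    constructor
    · rintro ⟨⟨p, y, hy, rfl⟩, rfl⟩
      show which (φ y 0).val = 0 ∨ which (φ y 0).val = 2
      by_cases h : (φ y 0).val = 0
      · exact Or.inl (by rw [h, hw0])
      · exact Or.inr (((label_spec _ (φ y 0).2).2.2 h).1.resolve_left (hno1 y hy))
    · intro hj
      by_cases h : j.val = 0
      · rw [show j = 0 from Fin.ext h]
        exact MulAction.mem_orbit_self _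
      · have hj2 : which j.val = 2 := by
          rcases ((label_spec _ j.2).2.2 h).1 with h1 | h1
          · rcases hj with hj | hj <;> omega
          · exact h1
        obtain ⟨a, ha, haj⟩ := exists_mem_apply_root hφ j h
        obtain ⟨b, hb, hbc⟩ := exists_mem_apply_root hφ (φ c 0) hc0
        refine ⟨⟨φ (a * b⁻¹ * c), _, mul_mem (mul_mem (hHC ha) (inv_mem (hHC hb))) hc, rfl⟩, ?_⟩
        show φ (a * b⁻¹ * c) 0 = j
        rw [map_mul, map_mul, map_inv, Equiv.Perm.mul_apply, Equiv.Perm.mul_apply,
          Equiv.Perm.inv_eq_iff_eq.mpr hbc.symm, hc2]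
        rw [hj2] at haj
        exact haj
  have hn : (MulAction.orbit (C.map φ) (0 : Fin 306936)).ncard = 31672 := by
    rw [hset, show {j : Fin 306936 | which j.val = 0 ∨ which j.val = 2} =
      insert (0 : Fin 306936) {j : Fin 306936 | which j.val = 2} from ?_, Set.ncard_insert_of_notMem]
    · rw [← Nat.card_coe_set_eq]
      exact congrArg (· + 1) card_small
    · show ¬ which (0 : Fin 306936).val = 2
      rw [show (0 : Fin 306936).val = 0 from rfl, hw0]
      omega
    · ext j
      simp only [Set.mem_setOf_eq, Set.mem_insert_iff]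
      constructor
      · rintro (h | h)
        · refine Or.inl (Fin.ext ?_)
          by_contra h0
          rcases ((label_spec _ j.2).2.2 h0).1 with h1 | h1 <;> omega
        · exact Or.inr h
      · rintro (rfl | h)
        · exact Or.inl hw0
        · exact Or.inr h
  have hdvd : 31672 ∣ Nat.card (C.map φ) := by
    rw [← hn, ← MulAction.index_stabilizer]
    exact Subgroup.index_dvd_card _
  have h2 : 31672 ∣ 2 * 1255205709190661721292800 := by
    rw [Subgroup.card_map_of_injective hinj] at hdvd
    exact hdvd.trans (hG ▸ Subgroup.card_subgroup_dvd_card C)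
  norm_num at h2

/-- A class of 306936 three-transpositions, whose centralisers contain Fi23. -/
theorem exists_class :
    ∃ D : Set setup.Grp, Cfsg.IsThreeTranspositionClass D ∧ Nat.card D = 306936 ∧
      ∀ d ∈ D, Nat.card (Subgroup.centralizer ({d} : Set setup.Grp)) = 2 * 4089470473293004800 ∧
        ∃ K : Subgroup setup.Grp, K ≤ Subgroup.centralizer ({d} : Set setup.Grp) ∧ Cfsg.IsFi23 K := by
  haveI := finite_grp
  obtain ⟨φ, e, hφ, he, he0, hinj, hG, hH, -⟩ := order_and_action
  set z := setup.g 11 with hz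
  haveI : _root_.Fact (Nat.Prime 2) := ⟨Nat.prime_two⟩
  have hz1 : z ≠ 1 := fun h => by
    have h1 := congrArg Fin.val (congrArg (fun p : Equiv.Perm (Fin 306936) => p ⟨1, by norm_num⟩)
      ((congrArg φ h).trans (map_one φ)))
    simp only [Equiv.Perm.one_apply] at h1
    rw [hφ 11 (by norm_num), Fi24H.perm_apply _ _ (by norm_num)] at h1
    change Fi24H.T 11 1 = 1 at h1
    rw [moves_one.2] at h1
    omega
  have hzo : orderOf z = 2 := orderOf_eq_prime (by rw [pow_two, sq_g]) hz1
  have hcomm : ∀ y ∈ H, y * z * y⁻¹ = z := fun y hy => by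
    rw [← centralizer_eq, Subgroup.mem_centralizer_singleton_iff] at hy
    rw [hy, mul_inv_cancel_right]
  refine ⟨conjugatesOf z, ⟨⟨?_, ?_⟩, ⟨z, mem_conjugatesOf_self, rfl⟩, ?_⟩, ?_, ?_⟩
  · intro d hd
    obtain ⟨c, rfl⟩ := isConj_iff.mp (hd : IsConj z _)
    rw [show c * z * c⁻¹ = MulAut.conj c z from rfl]
    exact ((MulAut.conj c).orderOf_eq z).trans hzo
  · intro d hd d' hd'
    obtain ⟨a, rfl⟩ := isConj_iff.mp (hd : IsConj z _)
    obtain ⟨b, rfl⟩ := isConj_iff.mp (hd' : IsConj z _)
    have hmain : (z * ((a⁻¹ * b) * z * (a⁻¹ * b)⁻¹)) ^ 2 = 1 ∨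
        (z * ((a⁻¹ * b) * z * (a⁻¹ * b)⁻¹)) ^ 3 = 1 := by
      generalize a⁻¹ * b = c
      by_cases hc : φ c 0 = 0
      · left
        rw [hcomm c ((mem_H_iff he he0 c).mp hc), pow_two, sq_g, one_mul]
      have hc' : (φ c 0).val ≠ 0 := fun h => hc (Fin.ext h)
      obtain ⟨y, hy, hyc⟩ := exists_mem_apply_root hφ (φ c 0) hc'
      have key : ∀ u : setup.Grp, φ u 0 = root (which (φ c 0).val) →
          c * z * c⁻¹ = y * (u * z * u⁻¹) * y⁻¹ := fun u hu => by
        have hk : (y * u)⁻¹ * c ∈ H := by
          refine (mem_H_iff he he0 _).mp ?_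
          rw [map_mul, map_inv, Equiv.Perm.mul_apply, Equiv.Perm.inv_eq_iff_eq, map_mul,
            Equiv.Perm.mul_apply, hu, hyc]
        have h := hcomm _ hk
        conv_rhs => rw [← h]
        group
      have key2 : ∀ (u : setup.Grp) (p : ℕ), φ u 0 = root (which (φ c 0).val) →
          (z * (u * z * u⁻¹)) ^ p = 1 → (z * (c * z * c⁻¹)) ^ p = 1 := fun u p hu hp => by
        have h : z * (c * z * c⁻¹) = y * (z * (u * z * u⁻¹)) * y⁻¹ := by
          rw [key u hu]
          conv_lhs => arg 1; rw [← hcomm y hy]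
          group
        rw [h, conj_pow, hp]
        group
      rcases ((label_spec _ (φ c 0).2).2.2 hc').1 with h1 | h1
      · right
        refine key2 (setup.g 10) 3 ?_ ?_
        · rw [h1, hφ 10 (by norm_num)]
          refine Fin.ext ((Fi24H.perm_apply _ _ (by norm_num) _).trans ?_)
          exact point_facts.1
        · rw [inv_g]
          have h := setup.prod_mem [10, 11, 10, 11, 10, 11] (show _ ∈ words by decide +kernel)
          simp only [prodw, List.map_cons, List.map_nil, List.prod_cons, List.prod_nil, mul_one] at h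
          have h3 : (setup.g 11 * setup.g 10) ^ 3 = 1 := by
            rw [show setup.g 11 * setup.g 10 = (setup.g 10 * setup.g 11)⁻¹ by rw [mul_inv_rev, inv_g, inv_g],
              inv_pow, inv_eq_one, pow_succ, pow_two]
            simpa only [mul_assoc] using h
          rw [show z * (setup.g 10 * z * setup.g 10) = (setup.g 11 * setup.g 10) ^ 2 by
            rw [hz, pow_two]; simp only [mul_assoc], ← pow_mul, mul_comm, pow_mul, h3, one_pow]
      · left
        refine key2 (setup.g 10 * setup.g 0 * setup.g 11 * setup.g 10) 2 ?_ ?_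
        · rw [h1, map_mul, map_mul, map_mul, hφ 10 (by norm_num), hφ 0 (by norm_num), hφ 11 (by norm_num)]
          simp only [Equiv.Perm.mul_apply]
          refine Fin.ext ?_
          rw [Fi24H.perm_apply _ _ (by norm_num), Fi24H.perm_apply _ _ (by norm_num),
            Fi24H.perm_apply _ _ (by norm_num), Fi24H.perm_apply _ _ (by norm_num)]
          exact point_facts.2.1
        · rw [hz, short_rep]
          have h := setup.prod_mem [0, 11, 0, 11] (show _ ∈ words by decide +kernel)
          simp only [prodw, List.map_cons, List.map_nil, List.prod_cons, List.prod_nil, mul_one] at h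
          have h2 : (setup.g 0 * setup.g 11) ^ 2 = 1 := by
            rw [pow_two]
            simpa only [mul_assoc] using h
          rw [show setup.g 11 * setup.g 0 = (setup.g 0 * setup.g 11)⁻¹ by rw [mul_inv_rev, inv_g, inv_g],
            inv_pow, h2, inv_one]
    have hconv : a * z * a⁻¹ * (b * z * b⁻¹) = a * (z * ((a⁻¹ * b) * z * (a⁻¹ * b)⁻¹)) * a⁻¹ := by group
    rw [hconv, conj_pow, conj_pow]
    rcases hmain with h | h
    · left; rw [h, mul_one, mul_inv_cancel]
    · right; rw [h, mul_one, mul_inv_cancel]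
  · rw [eq_top_iff, ← closure_g]
    refine (Subgroup.closure_le _).mpr ?_
    rintro _ ⟨x, hx, rfl⟩
    refine Subgroup.subset_closure ?_
    have step : ∀ p q : ℕ, [p, q, p, q, p, q] ∈ words → setup.g p ∈ conjugatesOf z →
        setup.g q ∈ conjugatesOf z := fun p q h hp =>
      IsConj.trans hp (isConj_iff.mpr ⟨_, conj_eq p q h⟩)
    have step' : ∀ p q : ℕ, [q, p, q, p, q, p] ∈ words → setup.g p ∈ conjugatesOf z →
        setup.g q ∈ conjugatesOf z := fun p q h hp =>
      IsConj.trans hp (isConj_iff.mpr ⟨_, conj_eq q p h⟩).symm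
    have h11 : setup.g 11 ∈ conjugatesOf z := mem_conjugatesOf_self
    have h10 := step' 11 10 (by decide +kernel) h11
    have h0 := step' 10 0 (by decide +kernel) h10
    have h1 := step 0 1 (by decide +kernel) h0
    have h2 := step 1 2 (by decide +kernel) h1
    have h3 := step 2 3 (by decide +kernel) h2
    have h4 := step 3 4 (by decide +kernel) h3
    have h5 := step 4 5 (by decide +kernel) h4
    have h6 := step 5 6 (by decide +kernel) h5
    have h7 := step 3 7 (by decide +kernel) h3
    have h8 := step 7 8 (by decide +kernel) h7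
    have h9 := step 6 9 (by decide +kernel) h6
    have hx' : x < 12 := hx
    interval_cases x <;> assumption
  · rw [show conjugatesOf z = MulAction.orbit (ConjAct setup.Grp) z from by
      ext y; rw [ConjAct.mem_orbit_conjAct]; exact isConj_comm]
    rw [Nat.card_coe_set_eq, ← MulAction.index_stabilizer, ConjAct.stabilizer_eq_centralizer]
    show (Subgroup.centralizer ({z} : Set setup.Grp)).index = 306936
    rw [centralizer_eq]
    exact index_H
  · intro d hd
    obtain ⟨c, rfl⟩ := isConj_iff.mp (hd : IsConj z _)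
    have hmap : Subgroup.centralizer ({c * z * c⁻¹} : Set setup.Grp) = H.map (MulAut.conj c).toMonoidHom := by
      rw [← centralizer_eq]
      ext y
      simp only [Subgroup.mem_map, MulEquiv.coe_toMonoidHom, Subgroup.mem_centralizer_singleton_iff]
      constructor
      · intro hy
        refine ⟨c⁻¹ * y * c, ?_, by simp [mul_assoc]⟩
        calc c⁻¹ * y * c * z = c⁻¹ * (y * (c * z * c⁻¹)) * c := by group
          _ = z * (c⁻¹ * y * c) := by rw [hy]; group
      · rintro ⟨x, hx, rfl⟩
        show c * x * c⁻¹ * (c * z * c⁻¹) = c * z * c⁻¹ * (c * x * c⁻¹)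
        rw [show c * x * c⁻¹ * (c * z * c⁻¹) = c * (x * z) * c⁻¹ by group, hz, hx]
        group
    refine ⟨?_, ((H.subgroupOf (commutator setup.Grp)).map (commutator setup.Grp).subtype).map
      (MulAut.conj c).toMonoidHom, ?_, ?_⟩
    · rw [hmap, Subgroup.card_map_of_injective (f := (MulAut.conj c).toMonoidHom) (MulAut.conj c).injective, hH]
    · rw [hmap]
      exact Subgroup.map_mono (Subgroup.map_comap_le _ _)
    · obtain ⟨iso⟩ := stabilizer_iso
      have σ := (iso.trans (Subgroup.equivMapOfInjective _ _ (commutator setup.Grp).subtype_injective)).trans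
        (Subgroup.equivMapOfInjective _ (MulAut.conj c).toMonoidHom (MulAut.conj c).injective)
      haveI : IsSimpleGroup Cfsg.Spor.Fi23 := Fi23.isSimpleGroup_Fi23
      exact ⟨σ.symm.isSimpleGroup, by rw [← Nat.card_congr σ.toEquiv, Fi23.card_Fi23]⟩

end CfsgLib.CosetEnum.Fi24
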